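import Cfsg.Agent.ThreeTransposition.M23Count.Lift

/-!
The width of the common neighbourhood of a noncommuting pair, one level up from the neighbourhood of a member.
-/

set_option autoImplicit false
set_option linter.unusedSectionVars false

namespace Cfsg.Lib.ThreeTr

open Cfsg Subgroup

universe u

variable {G : Type u} [Group G] {D : Set G}

theorem width_attained [Finite G] {S : Set G} {w : ℕ} (h : Cfsg.commutingWidth S = w) :
    ∃ E : Set G, E ⊆ S ∧ (∀ a ∈ E, ∀ b ∈ E, Commute a b) ∧ E.ncard = w := by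
  obtain ⟨E, hE, -, hc, hn⟩ : w ∈ {n : ℕ | ∃ E : Set G, E ⊆ S ∧ E.Finite ∧ (∀ a ∈ E, ∀ b ∈ E, Commute a b) ∧
      E.ncard = n} :=
    h ▸ Nat.sSup_mem (s := {n : ℕ | ∃ E : Set G, E ⊆ S ∧ E.Finite ∧ (∀ a ∈ E, ∀ b ∈ E, Commute a b) ∧ E.ncard = n})
      ⟨0, ∅, Set.empty_subset _, Set.finite_empty, by simp, Set.ncard_empty _⟩
      ⟨Nat.card G, by rintro n ⟨E', -, -, -, rfl⟩; exact Set.ncard_le_card E'⟩
  exact ⟨E, hE, hc, hn⟩

theorem width_le_of_mem [Finite G] {S : Set G} {w : ℕ} (h : Cfsg.commutingWidth S = w) {E : Set G} (hE : E ⊆ S)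
    (hc : ∀ a ∈ E, ∀ b ∈ E, Commute a b) : E.ncard ≤ w :=
  h ▸ le_csSup ⟨Nat.card G, by rintro n ⟨E', -, -, -, rfl⟩; exact Set.ncard_le_card E'⟩
    ⟨E, hE, Set.toFinite _, hc, rfl⟩

variable [Finite G] (hcls : IsThreeTranspositionClass D) (hT : TwinFree D) {d : G} (hd : d ∈ D)
include hcls hT hd

/-- One level up. -/
theorem width_pair_of_desc {w : ℕ}
    (hw : ∀ u ∈ descSet D d, ∀ v ∈ descSet D d, ¬ Commute u v →
      Cfsg.commutingWidth (perp (descSet D d) u ∩ perp (descSet D d) v) = w)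
    (hne : ∀ a ∈ D, ∀ c ∈ D, ¬ Commute a c → (perp D a ∩ perp D c).Nonempty)
    {a c : G} (ha : a ∈ D) (hc : c ∈ D) (hac : ¬ Commute a c) :
    Cfsg.commutingWidth (perp D a ∩ perp D c) = w + 1 := by
  -- at a pair in the neighbourhood
  have key : ∀ {a c : G}, a ∈ perp D d → c ∈ perp D d → ¬ Commute a c →
      (∀ E : Set G, E ⊆ perp D a ∩ perp D c → d ∈ E → (∀ x ∈ E, ∀ y ∈ E, Commute x y) → E.ncard ≤ w + 1) ∧
      ∃ E : Set G, E ⊆ perp D a ∩ perp D c ∧ (∀ x ∈ E, ∀ y ∈ E, Commute x y) ∧ E.ncard = w + 1 := by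
    intro a c ha hc hac
    set A : ↥(closure (perp D d)) := ⟨a, subset_closure ha⟩
    set C : ↥(closure (perp D d)) := ⟨c, subset_closure hc⟩
    have hAC : ¬ Commute (A : ↥(closure (perp D d)) ⧸ center ↥(closure (perp D d))) C := fun e =>
      hac ((desc_commute_iff hcls hT hd (x := A) (y := C) ha hc).1 e)
    have hW := hw _ ⟨A, ha, rfl⟩ _ ⟨C, hc, rfl⟩ hAC
    have hperp : ∀ {u : G} (hu : u ∈ perp D d) {v : ↥(closure (perp D d))}, (v : G) ∈ perp D d →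
        (((v : ↥(closure (perp D d)) ⧸ center ↥(closure (perp D d))) ∈
          perp (descSet D d) (⟨u, subset_closure hu⟩ : ↥(closure (perp D d)))) ↔ (v : G) ∈ perp D u) := by
      intro u hu v hv
      refine ⟨fun ⟨_, hne, hcm⟩ => ⟨hv.1, fun e => hne ?_,
          (desc_commute_iff hcls hT hd (x := ⟨u, subset_closure hu⟩) (y := v) hu hv).1 hcm⟩,
        fun ⟨_, hne, hcm⟩ => ⟨⟨v, hv, rfl⟩, fun e => hne ?_,
          (desc_commute_iff hcls hT hd (x := ⟨u, subset_closure hu⟩) (y := v) hu hv).2 hcm⟩⟩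
      · exact congrArg _ (Subtype.ext e)
      · exact desc_mk_inj hcls hT hd hv hu e
    constructor
    · intro E hE hdE hEc
      have hF : E \ {d} ⊆ perp D d := fun y hy => ⟨(hE hy.1).1.1, hy.2, hEc d hdE y hy.1⟩
      have hle : (descImg D d (E \ {d})).ncard ≤ w := by
        refine width_le_of_mem hW ?_ ?_
        · rintro _ ⟨v, hv, rfl⟩
          exact ⟨(hperp ha (hF hv)).2 (hE hv.1).1, (hperp hc (hF hv)).2 (hE hv.1).2⟩
        · rintro _ ⟨u, hu, rfl⟩ _ ⟨v, hv, rfl⟩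
          exact (desc_commute_iff hcls hT hd (hF hu) (hF hv)).2 (hEc _ hu.1 _ hv.1)
      rw [ncard_descImg hcls hT hd hF, Set.ncard_sdiff_singleton_of_mem hdE] at hle
      omega
    · obtain ⟨E, hE, hEc, hn⟩ := width_attained hW
      set F : Set G := {x | ∃ u : ↥(closure (perp D d)), (u : G) = x ∧ x ∈ perp D d ∧ QuotientGroup.mk u ∈ E}
      have hF : F ⊆ perp D d := fun x ⟨u, _, h, _⟩ => h
      have hEF : descImg D d F = E := by
        refine Set.Subset.antisymm ?_ fun q hq => ?_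
        · rintro _ ⟨u, ⟨v, hv, -, hvE⟩, rfl⟩
          rwa [Subtype.ext hv] at hvE
        · obtain ⟨u, hu, rfl⟩ := (hE hq).1.1
          exact ⟨u, ⟨u, rfl, hu, hq⟩, rfl⟩
      have hdF : d ∉ F := fun e => (hF e).2.1 rfl
      refine ⟨insert d F, ?_, ?_, ?_⟩
      · rintro x (rfl | ⟨u, rfl, hu, huE⟩)
        · exact ⟨⟨hd, ha.2.1.symm, ha.2.2.symm⟩, hd, hc.2.1.symm, hc.2.2.symm⟩
        · exact ⟨(hperp ha hu).1 (hE huE).1, (hperp hc hu).1 (hE huE).2⟩
      · rintro x (rfl | hx) y (rfl | hy)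
        · exact Commute.refl _
        · exact (hF hy).2.2
        · exact (hF hx).2.2.symm
        · obtain ⟨u, rfl, hu, huE⟩ := hx
          obtain ⟨v, rfl, hv, hvE⟩ := hy
          exact (desc_commute_iff hcls hT hd hu hv).1 (hEc _ huE _ hvE)
      · rw [Set.ncard_insert_of_notMem hdF, ← ncard_descImg hcls hT hd hF, hEF, hn]
  -- any member of the common neighbourhood can be taken to `d`
  have move : ∀ f ∈ perp D a ∩ perp D c, ∃ g : G, g * f * g⁻¹ = d ∧ g * a * g⁻¹ ∈ perp D d ∧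
      g * c * g⁻¹ ∈ perp D d ∧ ¬ Commute (g * a * g⁻¹) (g * c * g⁻¹) ∧
      (fun y => g * y * g⁻¹) '' (perp D a ∩ perp D c) = perp D (g * a * g⁻¹) ∩ perp D (g * c * g⁻¹) := by
    intro f hf
    obtain ⟨g, rfl⟩ := exists_conj hcls hf.1.1 hd
    refine ⟨g, rfl, ?_, ?_, fun e => hac ((conj_commute_iff g a c).1 e), ?_⟩
    · rw [← conj_image_perp hcls g f]; exact ⟨a, ⟨ha, hf.1.2.1.symm, hf.1.2.2.symm⟩, rfl⟩
    · rw [← conj_image_perp hcls g f]; exact ⟨c, ⟨hc, hf.2.2.1.symm, hf.2.2.2.symm⟩, rfl⟩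
    · rw [Set.image_inter (conj_image_injective g), conj_image_perp hcls g a, conj_image_perp hcls g c]
  refine IsGreatest.csSup_eq ⟨?_, ?_⟩
  · obtain ⟨f, hf⟩ := hne a ha c hc hac
    obtain ⟨g, -, h1, h2, h3, himg⟩ := move f hf
    obtain ⟨E, hE, hEc, hn⟩ := (key h1 h2 h3).2
    rw [← himg] at hE
    obtain ⟨E', hE', rfl⟩ := Set.subset_image_iff.1 hE
    refine ⟨E', hE', Set.toFinite _, fun x hx y hy => (conj_commute_iff g x y).1 (hEc _ ⟨x, hx, rfl⟩ _ ⟨y, hy, rfl⟩), ?_⟩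
    rwa [Set.ncard_image_of_injective _ (conj_image_injective g)] at hn
  · rintro n ⟨E, hE, -, hEc, rfl⟩
    rcases E.eq_empty_or_nonempty with rfl | ⟨f, hf⟩
    · simp
    obtain ⟨g, hg, h1, h2, h3, himg⟩ := move f (hE hf)
    have := (key h1 h2 h3).1 ((fun y => g * y * g⁻¹) '' E) (himg ▸ Set.image_mono hE) ⟨f, hf, hg⟩ (by
      rintro _ ⟨x, hx, rfl⟩ _ ⟨y, hy, rfl⟩
      exact (conj_commute_iff g x y).2 (hEc x hx y hy))
    rwa [Set.ncard_image_of_injective _ (conj_image_injective g)] at this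

end Cfsg.Lib.ThreeTr
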