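import Cfsg.Agent.ThreeTransposition.PairNormaliser.ReflCenter
import Cfsg.Agent.Classical.OrthSylowTwo.Transport
import Cfsg.Agent.Classical.Orth.POmegaCard
import Cfsg.Agent.Known.OrthGlue

/-!
The projective reflection groups in dimension seven over the field with three elements are the simple groups
`Ω(7, 3)`.
-/

set_option autoImplicit false
set_option linter.unusedSectionVars false

namespace Cfsg.Lib.ThreeTr

open Cfsg Matrix Subgroup Cfsg.Lib.Classical

theorem det_omega {F : Type*} [Field F] [Fintype F] {ι : Type} [Fintype ι] [DecidableEq ι] (Q : QuadraticForm F (ι → F))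
    {g : Cfsg.isometryGroup F (⇑Q)} (hg : g ∈ Cfsg.Omega F (⇑Q)) : (Refl.mat Q g).det = 1 :=
  congrArg Units.val (Refl.hom_eq_one_of_omega Q (Refl.detHom Q) hg)

theorem not_neg_one_omega {F : Type*} [Field F] [Fintype F] {ι : Type} [Fintype ι] [DecidableEq ι]
    (Q : QuadraticForm F (ι → F)) (h2 : (2 : F) ≠ 0) (ho : Odd (Fintype.card ι)) {g : Cfsg.isometryGroup F (⇑Q)}
    (hg : g ∈ Cfsg.Omega F (⇑Q)) (e : Refl.mat Q g = -1) : False := by
  have h3 := det_omega Q hg
  rw [e, Matrix.det_neg, Matrix.det_one, mul_one, ho.neg_one_pow] at h3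
  exact h2 (by linear_combination -h3)

theorem two_ne_three : (2 : ZMod 3) ≠ 0 := by decide

local notation "Q₇" => Cfsg.quadFormOdd 3 (ZMod 3)

theorem card_isometry_seven : Nat.card (Cfsg.isometryGroup (ZMod 3) Q₇) = 18341406720 := by
  rw [OrthCard.card_odd (F := ZMod 3) (by decide) 3, Nat.card_zmod]
  simp [OrthCard.prodQ, Finset.prod_range_succ]

variable (Q : QuadraticForm (ZMod 3) (Fin 7 → ZMod 3)) (hQ : (QuadraticMap.polarBilin Q).Nondegenerate)
include hQ

theorem isometry_seven_equiv : Nonempty (Cfsg.isometryGroup (ZMod 3) Q₇ ≃* Cfsg.isometryGroup (ZMod 3) (⇑Q)) := by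
  haveI : Fact (Nat.Prime 3) := ⟨Nat.prime_three⟩
  obtain ⟨g, c, hc, hg⟩ := OrthGlue.odd_equiv (m := 3) (Q := Q) (by rw [Module.finrank_fin_fun]) hQ
  obtain ⟨e⟩ := Cfsg.Lib.OrthSylowTwo.exists_equiv Q (c • Refl.oddForm 3 (ZMod 3)) g fun x => by
    rw [hg, ← Refl.oddForm_coe]
    rfl
  have h : Cfsg.isometryGroup (ZMod 3) Q₇ = Cfsg.isometryGroup (ZMod 3) (⇑(c • Refl.oddForm 3 (ZMod 3))) := by
    rw [← Refl.oddForm_coe]
    ext u
    rw [Refl.mem_iff, Refl.mem_iff]
    exact forall_congr' fun x => (mul_right_inj' hc).symm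
  exact ⟨(MulEquiv.subgroupCongr h).trans e⟩

omit hQ in
theorem omega_seven_le (H : Subgroup (Cfsg.isometryGroup (ZMod 3) (⇑Q))) (hH : H.index = 2) :
    Cfsg.Omega (ZMod 3) (⇑Q) ≤ H := by
  haveI := Subgroup.normal_of_index_eq_two hH
  haveI : Fact (Nat.Prime 2) := ⟨Nat.prime_two⟩
  haveI : IsCyclic (Cfsg.isometryGroup (ZMod 3) (⇑Q) ⧸ H) :=
    isCyclic_of_prime_card (p := 2) (by rw [← Subgroup.index_eq_card]; exact hH)
  letI := IsCyclic.commGroup (α := Cfsg.isometryGroup (ZMod 3) (⇑Q) ⧸ H)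
  exact Subgroup.Normal.quotient_commutative_iff_commutator_le.1 inferInstance

variable {c : ZMod 3} (hc : c ≠ 0)
include hc

theorem card_reflection_seven : Nat.card ↥(reflectionSubgroup (⇑Q) c) = 9170703360 := by
  obtain ⟨e⟩ := isometry_seven_equiv Q hQ
  have h := (reflectionSubgroup (⇑Q) c).card_mul_index
  rw [index_reflectionSubgroup Q hQ (by norm_num) hc, ← Nat.card_congr e.toEquiv, card_isometry_seven] at h
  omega

/-- A group of order at most that of `Ω(7, 3)` with such a central quotient is `Ω(7, 3)`. -/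
theorem omega_seven_of_refl {K : Type*} [Group K] [Finite K] (hle : Nat.card K ≤ 4585351680)
    (ψ : K ⧸ center K ≃* ↥(reflectionSubgroup (⇑Q) c) ⧸ center ↥(reflectionSubgroup (⇑Q) c)) :
    Nat.card K = 4585351680 ∧ Nonempty (K ≃* Cfsg.POmega (ZMod 3) Q₇) := by
  haveI : Fact (Nat.Prime 3) := ⟨Nat.prime_three⟩
  set R := reflectionSubgroup (⇑Q) c
  have hR : Nat.card R = 9170703360 := card_reflection_seven Q hQ hc
  have hZ : Nat.card (center R) ≤ 2 := card_center_reflection_le Q hQ (by norm_num) hc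
  have hq := Subgroup.card_eq_card_quotient_mul_card_subgroup (center R)
  have hqK := Subgroup.card_eq_card_quotient_mul_card_subgroup (center K)
  rw [Nat.card_congr ψ.toEquiv] at hqK
  rw [hR] at hq
  set q := Nat.card (R ⧸ center R) with hqdef
  have hq2 : 4585351680 ≤ q := by
    have := Nat.mul_le_mul_left q hZ
    omega
  have hz1 : Nat.card (center K) = 1 := by
    have hpos : 0 < Nat.card (center K) := Nat.card_pos
    by_contra hne
    have := Nat.mul_le_mul hq2 (show 2 ≤ Nat.card (center K) by omega)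
    omega
  rw [hz1, mul_one] at hqK
  have hK : Nat.card K = 4585351680 := by omega
  refine ⟨hK, ?_⟩
  -- the commutator subgroup maps bijectively to the quotient
  have h7 : 7 ≤ Fintype.card (Fin 7) := by simp
  have hΩ : Nat.card (Cfsg.Omega (ZMod 3) (⇑Q)) = q := by
    obtain ⟨e⟩ := isometry_seven_equiv Q hQ
    have h := (Cfsg.Omega (ZMod 3) (⇑Q)).card_mul_index
    rw [Refl.index_omega_odd Q two_ne_three hQ (by simp), ← Nat.card_congr e.toEquiv, card_isometry_seven] at h
    omega
  have hΩR : Cfsg.Omega (ZMod 3) (⇑Q) ≤ R := omega_seven_le Q R (index_reflectionSubgroup Q hQ (by norm_num) hc)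
  set φ : Cfsg.Omega (ZMod 3) (⇑Q) →* R ⧸ center R := (QuotientGroup.mk' (center R)).comp (Subgroup.inclusion hΩR)
  have hφ : Function.Injective φ := by
    rw [injective_iff_map_eq_one]
    intro g hg
    have hgz : Subgroup.inclusion hΩR g ∈ center R := (QuotientGroup.eq_one_iff _).1 hg
    refine Subtype.ext (Subtype.ext (Units.ext ?_))
    rcases mat_center Q hQ (by norm_num) hc hgz with e | e
    · exact e
    · exact (not_neg_one_omega Q two_ne_three (by rw [Fintype.card_fin]; exact ⟨3, rfl⟩) g.2 e).elim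
  have hbij : Function.Bijective φ := hφ.bijective_of_nat_card_le (hΩ ▸ le_rfl)
  have χ : K ≃* Cfsg.Omega (ZMod 3) (⇑Q) :=
    (((QuotientGroup.quotientMulEquivOfEq (Subgroup.card_eq_one.1 hz1)).trans QuotientGroup.quotientBot).symm.trans
      ψ).trans (MulEquiv.ofBijective φ hbij).symm
  obtain ⟨e⟩ := isometry_seven_equiv Q hQ
  have hcom : (Cfsg.Omega (ZMod 3) Q₇).map e.toMonoidHom = Cfsg.Omega (ZMod 3) (⇑Q) := by
    show (commutator _).map e.toMonoidHom = commutator _
    rw [_root_.commutator_def, Subgroup.map_commutator, Subgroup.map_top_of_surjective _ e.surjective,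
      _root_.commutator_def]
  let eO : Cfsg.Omega (ZMod 3) Q₇ ≃* Cfsg.Omega (ZMod 3) (⇑Q) :=
    ((Cfsg.Omega (ZMod 3) Q₇).equivMapOfInjective _ e.injective).trans (MulEquiv.subgroupCongr hcom)
  have hzO : center (Cfsg.Omega (ZMod 3) Q₇) = ⊥ := by
    rw [← Subgroup.card_eq_one, ← Refl.oddForm_coe]
    refine Refl.center_card_one (Refl.oddForm 3 (ZMod 3)) (Refl.oddForm_nondegenerate two_ne_three 3) (by simp) fun g hg e =>
      (not_neg_one_omega _ two_ne_three (by simp; decide) hg e).elim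
  exact ⟨χ.trans (eO.symm.trans ((QuotientGroup.quotientMulEquivOfEq hzO).trans QuotientGroup.quotientBot).symm)⟩

end Cfsg.Lib.ThreeTr
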