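import Cfsg.Agent.ThreeTransposition.PairNormaliser.TypeM22
import Cfsg.Agent.ThreeTransposition.PairNormaliser.ReflSeven
import Cfsg.Agent.ThreeTransposition.PairNormaliser.PairWidth
import Cfsg.Agent.ThreeTransposition.M23Count.M23

/-!
In type M(23) the members commuting with two noncommuting members `a`, `c` generate the joint centraliser of `a` and
`c`, the group `Ω(7, 3)`; at most seven of them commute pairwise.
-/

set_option autoImplicit false
set_option linter.unusedSectionVars false

namespace Cfsg.Lib.ThreeTr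

open Cfsg Subgroup

universe u

variable {G : Type u} [Group G] {D : Set G}

/-- The centraliser of a noncommuting pair, by counting. -/
theorem Tower.card_pair_centralizer [Finite G] {k l l' m' m'' : ℕ} (T : Tower D k l l' m' m'') {a c : G} (ha : a ∈ D)
    (hc : c ∈ D) (hac : ¬ Commute a c) :
    (D.ncard - (k + 1)) * Nat.card ↥(centralizer ({a, c} : Set G)) = Nat.card ↥(centralizer ({a} : Set G)) := by
  classical
  have hcls := T.rich.cls
  have hinv : ∀ g ∈ centralizer ({a} : Set G), ∀ y ∈ {y : G | y ∈ D ∧ ¬ Commute a y},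
      g * y * g⁻¹ ∈ {y : G | y ∈ D ∧ ¬ Commute a y} := by
    rintro g hg y ⟨hy, hay⟩
    have hga : g * a * g⁻¹ = a := by rw [mem_centralizer_singleton_iff.1 hg, mul_inv_cancel_right]
    refine ⟨conj_mem hcls g hy, fun e => hay ((conj_commute_iff g a y).1 ?_)⟩
    rwa [hga]
  have htrans : ∀ y ∈ {y : G | y ∈ D ∧ ¬ Commute a y}, ∃ g ∈ centralizer ({a} : Set G), g * c * g⁻¹ = y := by
    rintro y ⟨hy, hay⟩
    obtain ⟨g, hg, e⟩ := T.rich.nonperp_transitive ha hc hac hy hay
    exact ⟨g, mem_centralizer_singleton_iff.2 hg.eq, e⟩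
  have h1 := Cfsg.Lib.OrderFive.card_mul_orbit (centralizer ({a} : Set G)) c _
    (show c ∈ {y : G | y ∈ D ∧ ¬ Commute a y} from ⟨hc, hac⟩) hinv htrans
  have h2 : ({y : G | y ∈ D ∧ ¬ Commute a y}).ncard = D.ncard - (k + 1) := by
    rw [show {y : G | y ∈ D ∧ ¬ Commute a y} = D \ insert a (perp D a) from Set.ext fun y => by
      simp only [Set.mem_ofPred_eq, Set.mem_sdiff, Set.mem_insert_iff, not_or]
      exact ⟨fun ⟨h, h'⟩ => ⟨h, fun e => h' (e ▸ Commute.refl a), fun e => h' e.2.2⟩,
        fun ⟨h, h', h''⟩ => ⟨h, fun e => h'' ⟨h, h', e⟩⟩⟩,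
      Set.ncard_sdiff (Set.insert_subset ha fun y hy => hy.1) (Set.toFinite _),
      Set.ncard_insert_of_notMem (fun e => e.2.1 rfl) (Set.toFinite _), T.deg a ha]
  have h3 : centralizer ({a} : Set G) ⊓ centralizer ({c} : Set G) = centralizer ({a, c} : Set G) := by
    ext x
    simp [mem_inf, mem_centralizer_iff]
  rw [h2, h3] at h1
  rw [h1]

/-- The central quotient at one pair carried to another. -/
theorem quotient_pair_transport (hcls : IsThreeTranspositionClass D) {d e a c g : G} (hga : g * d * g⁻¹ = a)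
    (hgc : g * e * g⁻¹ = c) : Nonempty (↥(closure (perp D a ∩ perp D c)) ⧸ center ↥(closure (perp D a ∩ perp D c)) ≃*
      ↥(closure (perp D d ∩ perp D e)) ⧸ center ↥(closure (perp D d ∩ perp D e))) := by
  have hmap : (closure (perp D d ∩ perp D e)).map (MulAut.conj g).toMonoidHom = closure (perp D a ∩ perp D c) := by
    rw [MonoidHom.map_closure, ← hga, ← hgc, ← conj_image_inter hcls g d e]
    rfl
  set j : ↥(closure (perp D d ∩ perp D e)) ≃* ↥(closure (perp D a ∩ perp D c)) :=
    ((MulAut.conj g).subgroupMap (closure (perp D d ∩ perp D e))).trans (MulEquiv.subgroupCongr hmap)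
  have hcc : (center ↥(closure (perp D d ∩ perp D e))).map j.toMonoidHom =
      center ↥(closure (perp D a ∩ perp D c)) := by
    ext y
    obtain ⟨x, rfl⟩ := j.surjective y
    constructor
    · rintro ⟨z, hz, hzx⟩
      obtain rfl : z = x := j.injective hzx
      refine mem_center_iff.2 fun w => ?_
      obtain ⟨w, rfl⟩ := j.surjective w
      show j w * j z = j z * j w
      rw [← map_mul, ← map_mul, mem_center_iff.1 hz w]
    · intro hx
      refine ⟨x, mem_center_iff.2 fun w => j.injective ?_, rfl⟩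
      rw [map_mul, map_mul]
      exact mem_center_iff.1 hx (j w)
  exact ⟨(QuotientGroup.congr _ _ j hcc).symm⟩

theorem closure_common_le {a c : G} : closure (perp D a ∩ perp D c) ≤ centralizer ({a, c} : Set G) := by
  rw [closure_le]
  intro y hy
  refine mem_centralizer_iff.2 ?_
  rintro _ (rfl | rfl)
  exacts [hy.1.2.2.eq, hy.2.2.2.eq]

namespace M23

variable [Finite G] (h : M23 D)
include h

theorem card_pair_centralizer {a c : G} (ha : a ∈ D) (hc : c ∈ D) (hac : ¬ Commute a c) :
    Nat.card ↥(centralizer ({a, c} : Set G)) = 4585351680 := by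
  have h1 := h.solid.full.tower.card_pair_centralizer ha hc hac
  have h2 : Nat.card ↥(centralizer ({a} : Set G)) = 3510 * 18393661440 * 2 := by
    rw [h.solid.centralizer_eq ha, Subgroup.card_eq_card_quotient_mul_card_subgroup
      (center ↥(closure (perp D a))), h.solid.card_center_closure_perp ha, (h.desc_facts ha).1]
  rw [h.solid.full.card, h2] at h1
  omega

theorem pair_structure (ht : IsOfTypeM23 G D) {a c : G} (ha : a ∈ D) (hc : c ∈ D) (hac : ¬ Commute a c) :
    closure (perp D a ∩ perp D c) = centralizer ({a, c} : Set G) ∧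
      Nonempty (↥(closure (perp D a ∩ perp D c)) ≃* Cfsg.POmega (ZMod 3) (Cfsg.quadFormOdd 3 (ZMod 3))) := by
  obtain ⟨-, d, hd, e, he, hde, -, c₃, hc₃, Q, hQ, -, ⟨i⟩⟩ := ht
  obtain ⟨g, hga, hgc⟩ := h.solid.full.tower.inter_const hd he hde ha hc hac
  obtain ⟨t⟩ := quotient_pair_transport h.cls hga hgc
  have hle := closure_common_le (D := D) (a := a) (c := c)
  have hle' : Nat.card ↥(closure (perp D a ∩ perp D c)) ≤ 4585351680 :=
    h.card_pair_centralizer ha hc hac ▸ Nat.le_of_dvd Nat.card_pos (card_dvd_of_le hle)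
  obtain ⟨hK, hiso⟩ := omega_seven_of_refl Q hQ hc₃ hle' (t.trans i)
  exact ⟨Subgroup.eq_of_le_of_card_ge hle (by rw [h.card_pair_centralizer ha hc hac, hK]), hiso⟩

theorem pair_width {a c : G} (ha : a ∈ D) (hc : c ∈ D) (hac : ¬ Commute a c) :
    Cfsg.commutingWidth (perp D a ∩ perp D c) = 7 := by
  obtain ⟨d, hd, hQ⟩ := h.descended
  exact width_pair_of_desc h.cls h.solid.full.tower.twin hd (fun u hu v hv huv => hQ.pair_width hu hv huv)
    (fun a ha c hc hac => h.solid.full.m_pos ha hc hac) ha hc hac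

end M23

end Cfsg.Lib.ThreeTr
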