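import Cfsg.Agent.Components.GenFitting
import Mathlib

/-!
A quasisimple normal subgroup containing its centraliser is the generalized Fitting subgroup, and the group modulo
that centraliser embeds in the automorphisms of the central quotient.
-/

set_option autoImplicit false
set_option linter.unusedSectionVars false
set_option linter.style.haveILetI false

namespace Cfsg.Lib.ThreeTr

open Cfsg Subgroup Cfsg.Lib.Components
open scoped commutatorElement

universe u

variable {C : Type u} [Group C]

/-- A quasisimple normal subgroup containing its centraliser is the generalized Fitting subgroup. -/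
theorem genFitting_of_quasisimple_normal [Finite C] {N : Subgroup C} [hn : N.Normal] (hqs : IsQuasisimple N)
    (hC : centralizer (N : Set C) ≤ N) : Cfsg.generalizedFittingSubgroup C = N := by
  have hcomp : IsComponent N := ⟨hn.isSubnormal, hqs⟩
  refine le_antisymm (sup_le (sSup_le fun L hL => ?_) (sSup_le fun F hF => ?_))
    ((comp_le_layer hcomp).trans le_sup_left)
  · by_cases h : L = N
    · exact h.le
    exact (commutator_eq_bot_iff_le_centralizer.1 (comp_commute hL hcomp h)).trans hC
  · obtain ⟨hFn, hFnil⟩ := hF
    haveI := hFn
    haveI := hFnil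
    have hle : N ≤ normalizer (F : Set C) := by rw [Subgroup.normalizer_eq_top]; exact le_top
    have h1 := comp_commute_of_solvable hcomp inferInstance hle
    rw [Subgroup.commutator_comm] at h1
    exact (commutator_eq_bot_iff_le_centralizer.1 h1).trans hC

/-- The action on a subgroup modulo its centre. -/
def autQuot (N : Type u) [Group N] : MulAut N →* MulAut (N ⧸ center N) where
  toFun a := QuotientGroup.congr (center N) (center N) a (characteristic_iff_map_eq.1 inferInstance a)
  map_one' := by
    ext x
    obtain ⟨x, rfl⟩ := QuotientGroup.mk_surjective x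
    rfl
  map_mul' a b := by
    ext x
    obtain ⟨x, rfl⟩ := QuotientGroup.mk_surjective x
    rfl

theorem autQuot_mk {N : Type u} [Group N] (a : MulAut N) (x : N) : autQuot N a (x : N ⧸ center N) = a x := rfl

/-- What acts trivially on a perfect normal subgroup modulo its centre centralises it. -/
theorem mem_centralizer_of_trivial {N : Subgroup C} [N.Normal] (hp : commutator N = ⊤) {g : C}
    (h : autQuot N (MulAut.conjNormal g) = 1) : g ∈ centralizer (N : Set C) := by
  have hz : ∀ n : N, MulAut.conjNormal g n * n⁻¹ ∈ center N := by
    intro n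
    have e : ((MulAut.conjNormal g n : N) : N ⧸ center N) = (n : N ⧸ center N) := by
      rw [← autQuot_mk, h]; rfl
    rw [← QuotientGroup.eq_one_iff, QuotientGroup.mk_mul, QuotientGroup.mk_inv, e, mul_inv_cancel]
  let f : N →* center N :=
    { toFun := fun n => ⟨_, hz n⟩
      map_one' := Subtype.ext (by simp)
      map_mul' := fun a b => Subtype.ext (by
        show MulAut.conjNormal g (a * b) * (a * b)⁻¹ =
          MulAut.conjNormal g a * a⁻¹ * (MulAut.conjNormal g b * b⁻¹)
        have hc := mem_center_iff.1 (hz b) a⁻¹
        rw [map_mul, mul_inv_rev, mul_assoc (MulAut.conjNormal g a) a⁻¹, hc]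
        simp only [mul_assoc]) }
  rw [mem_centralizer_iff]
  intro x hx
  have h1 : f ⟨x, hx⟩ = 1 := by
    haveI : IsMulCommutative (center N) := inferInstance
    letI : CommGroup (center N) :=
      { (inferInstance : Group (center N)) with mul_comm := fun a b => Subtype.ext (mem_center_iff.1 b.2 a) }
    exact Abelianization.commutator_subset_ker f (hp.symm ▸ mem_top _)
  have h2 : g * x * g⁻¹ * x⁻¹ = 1 := congrArg (fun z : center N => ((z : N) : C)) h1
  exact (commutatorElement_eq_one_iff_mul_comm.1 (show ⁅g, x⁆ = 1 from h2)).symm

/-- The quotient by the centraliser is the full automorphism group when it has enough elements. -/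
theorem quotient_equiv_mulAut [Finite C] {N J : Subgroup C} [N.Normal] [J.Normal] {F : Type*} [Group F]
    [Finite (MulAut F)] (hp : commutator N = ⊤) (hJ : centralizer (N : Set C) = J) (e : N ⧸ center N ≃* F)
    (hcard : Nat.card (MulAut F) ≤ Nat.card (C ⧸ J)) : Nonempty (C ⧸ J ≃* MulAut F) := by
  set ψ : C →* MulAut F := (MulAut.congr e).toMonoidHom.comp ((autQuot N).comp MulAut.conjNormal) with hψ
  have hker : ψ.ker = J := by
    ext g
    rw [MonoidHom.mem_ker, hψ, MonoidHom.comp_apply, MulEquiv.coe_toMonoidHom, MulEquiv.map_eq_one_iff, ← hJ]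
    refine ⟨fun h => mem_centralizer_of_trivial hp h, fun h => ?_⟩
    have h1 : MulAut.conjNormal g = (1 : MulAut N) := by
      ext n
      rw [MulAut.conjNormal_apply, ← mem_centralizer_iff.1 h n n.2, mul_inv_cancel_right]
      rfl
    rw [MonoidHom.comp_apply, h1, map_one]
  let i : C ⧸ J ≃* ψ.range := (QuotientGroup.quotientMulEquivOfEq hker.symm).trans (QuotientGroup.quotientKerEquivRange ψ)
  have htop : ψ.range = ⊤ := Subgroup.eq_top_of_le_card _ (hcard.trans (Nat.card_congr i.toEquiv).le)
  exact ⟨i.trans ((MulEquiv.subgroupCongr htop).trans Subgroup.topEquiv)⟩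

end Cfsg.Lib.ThreeTr
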