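import Cfsg.Agent.S5357
import Cfsg.Agent.S5359

/-!
Over the field with three elements, in dimension at least five, the centre of the group generated by the reflections
of one non-zero norm has at most two elements, and the group has index two among the isometries.
-/

set_option autoImplicit false

namespace Cfsg.Lib.ThreeTr

open Cfsg Matrix Cfsg.Lib.Classical.Refl

variable {n : ℕ} (Q : QuadraticForm (ZMod 3) (Fin n → ZMod 3)) {c : ZMod 3}

theorem index_reflectionSubgroup (hQ : (QuadraticMap.polarBilin Q).Nondegenerate) (hn : 5 ≤ n) (hc : c ≠ 0) :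
    (Cfsg.reflectionSubgroup (⇑Q) c).index = 2 := by
  have key : ∀ x t : ZMod 3, t ≠ 0 → x * t ^ 2 = x := by decide +kernel
  have hset : Cfsg.reflectionsOfNorm (⇑Q) c = {g : Cfsg.isometryGroup (ZMod 3) (⇑Q) | ∃ (v : Fin n → ZMod 3)
      (t : ZMod 3), t ≠ 0 ∧ Q v = c * t ^ 2 ∧
      ((g : Matrix.GeneralLinearGroup (Fin n) (ZMod 3)) : Matrix (Fin n) (Fin n) (ZMod 3)) =
        Cfsg.reflectionMatrix (⇑Q) v} := by
    ext g
    exact ⟨fun ⟨v, hv, e⟩ => ⟨v, 1, one_ne_zero, by rw [hv]; ring, e⟩,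
      fun ⟨v, t, ht, hv, e⟩ => ⟨v, by rw [hv, key c t ht], e⟩⟩
  rw [Cfsg.reflectionSubgroup, hset]
  exact Cfsg.Agent.S5359.square_class_index_five Q (by decide) hQ (by rw [Fintype.card_fin]; exact hn) hc

variable (hQ : (QuadraticMap.polarBilin Q).Nondegenerate) (hn : 5 ≤ n) (hc : c ≠ 0)
include hQ hn hc

theorem exists_norm_c {k : ℕ} (hk : k + 1 < n) (S : Fin k → (Fin n → ZMod 3)) (hS : ∀ i, Q (S i) ≠ 0)
    (horth : ∀ i j, i ≠ j → QuadraticMap.polar (⇑Q) (S i) (S j) = 0) {t : ZMod 3} (ht : t ≠ 0) :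
    ∃ x, Q x = t ∧ ∀ i, QuadraticMap.polar (⇑Q) (S i) x = 0 := by
  obtain ⟨x, hx, hxS⟩ := Cfsg.Agent.S5357.exists_orth_val Q hQ hk S hS horth ht
  exact ⟨x, hx, fun i => (QuadraticMap.polar_comm (⇑Q) _ _).trans (hxS i)⟩

theorem exists_both {u v : Fin n → ZMod 3} (hu : Q u = c) (hv : Q v = c) :
    ∃ w, Q w = c ∧ QuadraticMap.polar (⇑Q) u w ≠ 0 ∧ QuadraticMap.polar (⇑Q) v w ≠ 0 := by
  have h2c : (2 : ℕ) • c ≠ 0 := (by decide +kernel : ∀ c : ZMod 3, c ≠ 0 → (2 : ℕ) • c ≠ 0) c hc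
  by_cases huv : QuadraticMap.polar (⇑Q) u v = 0
  · obtain ⟨x, hx, hxS⟩ := exists_norm_c Q hQ hn hc (k := 2) (by omega) ![u, v]
      (fun i => by fin_cases i <;> simp [hu, hv, hc])
      (fun i j hij => by
        fin_cases i <;> fin_cases j
        · exact absurd rfl hij
        · exact huv
        · exact (QuadraticMap.polar_comm (⇑Q) _ _).trans huv
        · exact absurd rfl hij) (neg_ne_zero.mpr hc)
    have hux : QuadraticMap.polar (⇑Q) u x = 0 := hxS 0
    have hvx : QuadraticMap.polar (⇑Q) v x = 0 := hxS 1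
    refine ⟨u + v + x, ?_, ?_, ?_⟩
    · simp only [QuadraticMap.map_add (f := Q), QuadraticMap.polar_add_left, hu, hv, hx, huv, hux, hvx]
      ring
    · rw [QuadraticMap.polar_add_right, QuadraticMap.polar_add_right, huv, hux, QuadraticMap.polar_self, hu,
        add_zero, add_zero]
      exact h2c
    · rw [QuadraticMap.polar_add_right, QuadraticMap.polar_add_right, QuadraticMap.polar_comm (⇑Q) v u, huv, hvx,
        QuadraticMap.polar_self, hv, zero_add, add_zero]
      exact h2c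
  · exact ⟨v, hv, huv, by rw [QuadraticMap.polar_self, hv]; exact h2c⟩

/-- Only zero is orthogonal to all the vectors of norm `c`. -/
theorem eq_zero_of_orth {w : Fin n → ZMod 3} (hw : ∀ v, Q v = c → QuadraticMap.polar (⇑Q) w v = 0) : w = 0 := by
  have haniso : ∀ y, Q y ≠ 0 → QuadraticMap.polar (⇑Q) w y = 0 := by
    intro y hy
    have hdich : Q y = c ∨ Q y = -c := by
      exact (by decide +kernel : ∀ q c : ZMod 3, c ≠ 0 → q ≠ 0 → q = c ∨ q = -c) _ _ hc hy
    rcases hdich with e | e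
    · exact hw y e
    obtain ⟨u, hu, huS⟩ := exists_norm_c Q hQ hn hc (k := 1) (by omega) ![y] (fun i => by fin_cases i; exact hy)
      (fun i j hij => absurd (Subsingleton.elim i j) hij) hc
    have hyu : QuadraticMap.polar (⇑Q) y u = 0 := huS 0
    obtain ⟨x, hx, hxS⟩ := exists_norm_c Q hQ hn hc (k := 2) (by omega) ![y, u]
      (fun i => by fin_cases i <;> simp [hy, hu, hc])
      (fun i j hij => by
        fin_cases i <;> fin_cases j
        · exact absurd rfl hij
        · exact hyu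
        · exact (QuadraticMap.polar_comm (⇑Q) _ _).trans hyu
        · exact absurd rfl hij) hc
    have hyx : QuadraticMap.polar (⇑Q) y x = 0 := hxS 0
    have hux : QuadraticMap.polar (⇑Q) u x = 0 := hxS 1
    have hs : Q (y + u + x) = c := by
      simp only [QuadraticMap.map_add (f := Q), QuadraticMap.polar_add_left, e, hu, hx, hyu, hyx, hux]
      ring
    have := hw _ hs
    rwa [QuadraticMap.polar_add_right, QuadraticMap.polar_add_right, hw u hu, hw x hx, add_zero, add_zero] at this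
  obtain ⟨a, ha, -⟩ := exists_norm_c Q hQ hn hc (k := 0) (by omega) ![] finZeroElim finZeroElim hc
  refine hQ.1 w fun y => ?_
  show QuadraticMap.polar (⇑Q) w y = 0
  by_contra hy
  have hp : Q (y + a) = 0 := by
    by_contra h
    apply hy
    have := haniso _ h
    rwa [QuadraticMap.polar_add_right, hw a ha, add_zero] at this
  have hm : Q (y - a) = 0 := by
    by_contra h
    apply hy
    have := haniso _ h
    rwa [QuadraticMap.polar_sub_right, hw a ha, sub_zero] at this
  have hy0 : Q y = 0 := by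
    by_contra h
    exact hy (haniso y h)
  rw [QuadraticMap.map_add (f := Q), hy0, ha, zero_add] at hp
  rw [sub_eq_add_neg, QuadraticMap.map_add (f := Q), hy0, QuadraticMap.map_neg, ha, QuadraticMap.polar_neg_right,
    zero_add] at hm
  exact (by decide +kernel : ∀ p c : ZMod 3, c ≠ 0 → c + p = 0 → c + -p = 0 → False) _ _ hc hp hm

theorem mat_center {z : ↥(Cfsg.reflectionSubgroup (⇑Q) c)}
    (hz : z ∈ Subgroup.center ↥(Cfsg.reflectionSubgroup (⇑Q) c)) :
    (((z : Cfsg.isometryGroup (ZMod 3) (⇑Q)) : GL (Fin n) (ZMod 3)) : Matrix (Fin n) (Fin n) (ZMod 3)) = 1 ∨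
      (((z : Cfsg.isometryGroup (ZMod 3) (⇑Q)) : GL (Fin n) (ZMod 3)) : Matrix (Fin n) (Fin n) (ZMod 3)) = -1 := by
  set M := (((z : Cfsg.isometryGroup (ZMod 3) (⇑Q)) : GL (Fin n) (ZMod 3)) : Matrix (Fin n) (Fin n) (ZMod 3))
  have hM : ∀ x, Q (M *ᵥ x) = Q x := (mem_iff Q).mp (z : Cfsg.isometryGroup (ZMod 3) (⇑Q)).2
  have hpol : ∀ x y, QuadraticMap.polar (⇑Q) (M *ᵥ x) (M *ᵥ y) = QuadraticMap.polar (⇑Q) x y := fun x y => by
    simp only [QuadraticMap.polar, ← mulVec_add, hM]
  have hsign : ∀ v, Q v = c → M *ᵥ v = v ∨ M *ᵥ v = -v := by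
    intro v hv
    have hv0 : Q v ≠ 0 := hv ▸ hc
    let r : ↥(Cfsg.reflectionSubgroup (⇑Q) c) := ⟨refl Q v hv0, Subgroup.subset_closure ⟨v, hv, rfl⟩⟩
    have e1 := congrArg (fun g : ↥(Cfsg.reflectionSubgroup (⇑Q) c) =>
      (((g : Cfsg.isometryGroup (ZMod 3) (⇑Q)) : GL (Fin n) (ZMod 3)) : Matrix (Fin n) (Fin n) (ZMod 3)) *ᵥ v)
      (Subgroup.mem_center_iff.1 hz r)
    simp only [Subgroup.coe_mul, Units.val_mul, ← mulVec_mulVec] at e1
    change Cfsg.reflectionMatrix (⇑Q) v *ᵥ (M *ᵥ v) = M *ᵥ (Cfsg.reflectionMatrix (⇑Q) v *ᵥ v) at e1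
    rw [self Q v hv0, mulVec_eq, mulVec_neg] at e1
    set k := (Q v)⁻¹ * QuadraticMap.polar (⇑Q) v (M *ᵥ v)
    have e2 : M *ᵥ v = (2 * k) • v := by
      have key : ∀ a b k : ZMod 3, a - k * b = -a → a = 2 * k * b := by decide +kernel
      funext i
      exact key _ _ _ (by simpa using congrFun e1 i)
    have e3 := hM v
    rw [e2, QuadraticMap.map_smul, smul_eq_mul] at e3
    have key : ∀ t q : ZMod 3, q ≠ 0 → t * t * q = q → t = 1 ∨ t = -1 := by decide +kernel
    rcases key _ _ hv0 e3 with h | h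
    · exact Or.inl (by rw [e2, h, one_smul])
    · exact Or.inr (by rw [e2, h, neg_one_smul])
  have hsame : ∀ u v, Q u = c → Q v = c → QuadraticMap.polar (⇑Q) u v ≠ 0 → M *ᵥ u = u → M *ᵥ v = v := by
    intro u v _ hv huv hMu
    refine (hsign v hv).resolve_right fun h => huv ?_
    have := hpol u v
    rw [hMu, h, QuadraticMap.polar_neg_right] at this
    exact (by decide +kernel : ∀ p : ZMod 3, -p = p → p = 0) _ this
  have hall : ∀ ε : ZMod 3, (∀ v, Q v = c → M *ᵥ v = ε • v) → ε * ε = 1 →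
      M = ε • (1 : Matrix (Fin n) (Fin n) (ZMod 3)) := by
    intro ε hε hε2
    refine ext_of_mulVec_single fun i => ?_
    rw [smul_mulVec, one_mulVec]
    refine sub_eq_zero.1 (eq_zero_of_orth Q hQ hn hc fun v hv => ?_)
    have := hpol (Pi.single i 1) v
    rw [hε v hv, QuadraticMap.polar_smul_right, smul_eq_mul] at this
    rw [QuadraticMap.polar_sub_left, QuadraticMap.polar_smul_left, smul_eq_mul, ← this, ← mul_assoc, hε2, one_mul,
      sub_self]
  by_cases hfix : ∃ u, Q u = c ∧ M *ᵥ u = u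
  · obtain ⟨u, hu, hMu⟩ := hfix
    refine Or.inl ((hall 1 (fun v hv => ?_) (one_mul 1)).trans (one_smul _ _))
    obtain ⟨w, hw, huw, hvw⟩ := exists_both Q hQ hn hc hu hv
    rw [one_smul]
    exact hsame w v hw hv ((QuadraticMap.polar_comm (⇑Q) _ _).trans_ne hvw) (hsame u w hu hw huw hMu)
  · refine Or.inr ((hall (-1) (fun v hv => ?_) (by decide)).trans (by module))
    rw [neg_one_smul]
    exact (hsign v hv).resolve_left fun h => hfix ⟨v, hv, h⟩

/-- The centre has at most two elements. -/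
theorem card_center_reflection_le : Nat.card (Subgroup.center ↥(Cfsg.reflectionSubgroup (⇑Q) c)) ≤ 2 := by
  have hinj : Function.Injective fun z : ↥(Subgroup.center ↥(Cfsg.reflectionSubgroup (⇑Q) c)) =>
      ((((z : ↥(Cfsg.reflectionSubgroup (⇑Q) c)) : Cfsg.isometryGroup (ZMod 3) (⇑Q)) : GL (Fin n) (ZMod 3)) :
        Matrix (Fin n) (Fin n) (ZMod 3)) :=
    fun x y e => Subtype.ext (Subtype.ext (Subtype.ext (Units.ext e)))
  rw [← Set.ncard_univ, ← Set.ncard_image_of_injective _ hinj]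
  refine (Set.ncard_le_ncard (t := ({1, -1} : Set (Matrix (Fin n) (Fin n) (ZMod 3)))) ?_ (Set.toFinite _)).trans
    ((Set.ncard_insert_le _ _).trans (by rw [Set.ncard_singleton]))
  rintro _ ⟨z, -, rfl⟩
  rcases mat_center Q hQ hn hc z.2 with h | h
  · exact Or.inl h
  · exact Or.inr h

end Cfsg.Lib.ThreeTr
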