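import Cfsg.Agent.ThreeTransposition.PairNormaliser.Common
import Cfsg.Agent.ThreeTransposition.PairNormaliser.ReflCenter
import Cfsg.Agent.ThreeTransposition.M22Count.Bases
import Cfsg.Agent.ThreeTransposition.M22Count.Centraliser
import Cfsg.Agent.ThreeTransposition.M22Count.MaxClique
import Cfsg.Agent.ThreeTransposition.M23Count.M23
import Cfsg.Agent.ThreeTransposition.OrderFive.Normalizer

/-!
In type M(22) the members commuting with two noncommuting members `a`, `c` generate the joint centraliser of `a` and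
`c`, a projective reflection group of dimension six; at most six of them commute pairwise.
-/

set_option autoImplicit false
set_option linter.unusedSectionVars false

namespace Cfsg.Lib.ThreeTr

open Cfsg Subgroup

attribute [local instance] _root_.Classical.propDecidable

universe u

variable {G : Type u} [Group G] {D : Set G}

namespace M22

variable [Finite G] (h : M22 D) {a c : G} (ha : a ∈ D) (hc : c ∈ D) (hac : ¬ Commute a c)
include h ha hc hac

theorem card_pair_centralizer : Nat.card ↥(centralizer ({a, c} : Set G)) = 6531840 := by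
  have hinv : ∀ g ∈ centralizer ({a} : Set G), ∀ y ∈ {y : G | y ∈ D ∧ ¬ Commute a y},
      g * y * g⁻¹ ∈ {y : G | y ∈ D ∧ ¬ Commute a y} := by
    rintro g hg y ⟨hy, hay⟩
    have hga : g * a * g⁻¹ = a := by rw [mem_centralizer_singleton_iff.1 hg, mul_inv_cancel_right]
    refine ⟨conj_mem h.cls g hy, fun e => hay ((conj_commute_iff g a y).1 ?_)⟩
    rwa [hga]
  have htrans : ∀ y ∈ {y : G | y ∈ D ∧ ¬ Commute a y}, ∃ g ∈ centralizer ({a} : Set G), g * c * g⁻¹ = y := by
    rintro y ⟨hy, hay⟩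
    obtain ⟨g, hg, e⟩ := h.exists_pair.nonperp_transitive ha hc hac hy hay
    exact ⟨g, mem_centralizer_singleton_iff.2 hg.eq, e⟩
  have h1 := Cfsg.Lib.OrderFive.card_mul_orbit (centralizer ({a} : Set G)) c _
    (show c ∈ {y : G | y ∈ D ∧ ¬ Commute a y} from ⟨hc, hac⟩) hinv htrans
  have h2 : ({y : G | y ∈ D ∧ ¬ Commute a y}).ncard = 2816 := by
    rw [← h.card_nonperp ha hc hac, ← Set.ncard_coe_finset]
    congr 1
    ext y
    simp [mem_mem']
  have h3 : centralizer ({a} : Set G) ⊓ centralizer ({c} : Set G) = centralizer ({a, c} : Set G) := by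
    ext x
    simp [mem_inf, mem_centralizer_iff]
  rw [h2, h3, h.centralizer_eq ha, h.card_closure_perp ha] at h1
  omega

theorem pair_structure :
    closure (perp D a ∩ perp D c) = centralizer ({a, c} : Set G) ∧
    ∃ c₃ : ZMod 3, c₃ ≠ 0 ∧ IsProjReflectionGroupModThree ↥(closure (perp D a ∩ perp D c)) 6 1 c₃ := by
  set K := closure (perp D a ∩ perp D c) with hK
  have hle : K ≤ centralizer ({a, c} : Set G) := by
    rw [hK, closure_le]
    intro y hy
    refine mem_centralizer_iff.2 ?_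
    rintro _ (rfl | rfl)
    exacts [hy.1.2.2.eq, hy.2.2.2.eq]
  obtain ⟨-, d, hd, e, he, hde, -, c₃, hc₃, Q, hQ, hdet, ⟨i⟩⟩ := h.type
  obtain ⟨g, hga, hgc⟩ := h.inter_const hd he hde ha hc hac
  have hmap : (closure (perp D d ∩ perp D e)).map (MulAut.conj g).toMonoidHom = K := by
    rw [hK, MonoidHom.map_closure, ← hga, ← hgc, ← conj_image_inter h.cls g d e]
    rfl
  set j : ↥(closure (perp D d ∩ perp D e)) ≃* ↥K :=
    ((MulAut.conj g).subgroupMap (closure (perp D d ∩ perp D e))).trans (MulEquiv.subgroupCongr hmap)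
  have hcc : (center ↥(closure (perp D d ∩ perp D e))).map j.toMonoidHom = center ↥K := by
    ext y
    obtain ⟨x, rfl⟩ := j.surjective y
    constructor
    · rintro ⟨z, hz, hzx⟩
      obtain rfl : z = x := j.injective hzx
      refine mem_center_iff.2 fun w => ?_
      obtain ⟨w, rfl⟩ := j.surjective w
      show j w * j z = j z * j w
      rw [← map_mul, ← map_mul, mem_center_iff.1 hz w]
    · intro hx
      refine ⟨x, mem_center_iff.2 fun w => j.injective ?_, rfl⟩
      rw [map_mul, map_mul]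
      exact mem_center_iff.1 hx (j w)
  have ψ : ↥K ⧸ center ↥K ≃* ↥(reflectionSubgroup (⇑Q) c₃) ⧸ center ↥(reflectionSubgroup (⇑Q) c₃) :=
    (QuotientGroup.congr _ _ j hcc).symm.trans i
  have hR : Nat.card ↥(reflectionSubgroup (⇑Q) c₃) * 2 = 26127360 := by
    rw [← card_isometry_of_gram hQ hdet, ← index_reflectionSubgroup Q hQ (by norm_num) hc₃, Subgroup.card_mul_index]
  have hZ := card_center_reflection_le Q hQ (by norm_num) hc₃
  have hq := Subgroup.card_eq_card_quotient_mul_card_subgroup (center ↥(reflectionSubgroup (⇑Q) c₃))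
  have hqK := Subgroup.card_eq_card_quotient_mul_card_subgroup (center ↥K)
  have hKC : Nat.card ↥K ≤ 6531840 := h.card_pair_centralizer ha hc hac ▸
    Nat.le_of_dvd Nat.card_pos (card_dvd_of_le hle)
  rw [Nat.card_congr ψ.toEquiv] at hqK
  set q := Nat.card (↥(reflectionSubgroup (⇑Q) c₃) ⧸ center ↥(reflectionSubgroup (⇑Q) c₃))
  have hq2 : 6531840 ≤ q := by
    have := Nat.mul_le_mul_left q hZ
    omega
  have hz1 : Nat.card (center ↥K) = 1 := by
    have hpos : 0 < Nat.card (center ↥K) := Nat.card_pos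
    by_contra hne
    have := Nat.mul_le_mul hq2 (show 2 ≤ Nat.card (center ↥K) by omega)
    omega
  rw [hz1, mul_one] at hqK
  refine ⟨Subgroup.eq_of_le_of_card_ge hle ?_, c₃, hc₃, Q, hQ, hdet, ⟨?_⟩⟩
  · rw [h.card_pair_centralizer ha hc hac]; omega
  · exact (((QuotientGroup.quotientMulEquivOfEq (Subgroup.card_eq_one.1 hz1)).trans
      QuotientGroup.quotientBot).symm).trans ψ

theorem pair_width : Cfsg.commutingWidth (perp D a ∩ perp D c) = 6 := by
  refine IsGreatest.csSup_eq ⟨?_, ?_⟩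
  · obtain ⟨f, bs, hbs, hnd, hmem, hcomm, -⟩ := h.exists_six ha hc hac
    refine ⟨{x | x ∈ f :: bs}, hmem, Set.toFinite _, hcomm, ?_⟩
    rw [show {x | x ∈ f :: bs} = (((f :: bs).toFinset : Finset G) : Set G) from Set.ext fun x => by simp,
      Set.ncard_coe_finset, List.toFinset_card_of_nodup hnd, List.length_cons, hbs]
  rintro n ⟨E, hE, -, hcE, rfl⟩
  rcases E.eq_empty_or_nonempty with rfl | ⟨e₀, he₀⟩
  · simp
  obtain ⟨B, ⟨hBD, hEB, hBc⟩, hmax⟩ := Set.exists_max_image
    {B : Set G | B ⊆ D ∧ E ⊆ B ∧ ∀ x ∈ B, ∀ y ∈ B, Commute x y} Set.ncard (Set.toFinite _)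
    ⟨E, fun x hx => (hE hx).1.1, subset_rfl, hcE⟩
  have hB : IsMaxClique D B := by
    refine ⟨hBD, hBc, fun y hy hyB => ?_⟩
    by_contra hn
    have := hmax (insert y B) ⟨Set.insert_subset hy hBD, hEB.trans (Set.subset_insert _ _), by
      rintro x (rfl | hx) z (rfl | hz)
      exacts [Commute.refl _, hyB z hz, (hyB x hx).symm, hBc x hx z hz]⟩
    rw [Set.ncard_insert_of_notMem hn (Set.toFinite _)] at this
    omega
  have key : ∀ b ∈ D, b ∉ B → (∀ x ∈ E, Commute b x) → E.ncard ≤ 6 := by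
    intro b hbD hbB hbE
    rw [← hB.six h hbD hbB (hEB he₀) (hbE e₀ he₀)]
    exact Set.ncard_le_ncard (fun x hx => ⟨hEB hx, (hbE x hx).symm⟩) (Set.toFinite _)
  by_cases haB : a ∈ B
  · exact key c hc (fun hcB => hac (hBc a haB c hcB)) fun x hx => (hE hx).2.2.2
  · exact key a ha haB fun x hx => (hE hx).1.2.2

/-- The normaliser of the group of order three of two noncommuting members. -/
theorem pair_normalizer {X : Subgroup G} (hX : X = zpowers (a * c)) :
    (∃ g : G, X.map (MulAut.conj g).toMonoidHom ≤ closure (perp D a ∩ perp D c)) ∧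
      ∀ g g' : G, X.map (MulAut.conj g).toMonoidHom ≤ closure (perp D a ∩ perp D c) →
        X.map (MulAut.conj g').toMonoidHom ≤ closure (perp D a ∩ perp D c) →
        ∃ k ∈ closure (perp D a ∩ perp D c), (X.map (MulAut.conj g).toMonoidHom).map (MulAut.conj k).toMonoidHom =
          X.map (MulAut.conj g').toMonoidHom := by
  subst hX
  set M := perp D a ∩ perp D c with hMdef
  set K := closure M with hK
  have hmap : ∀ g x : G, (zpowers x).map (MulAut.conj g).toMonoidHom = zpowers (g * x * g⁻¹) := fun g x => by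
    rw [MonoidHom.map_zpowers]; rfl
  have hsplit : ∀ g : G, g * (a * c) * g⁻¹ = g * a * g⁻¹ * (g * c * g⁻¹) := fun g => by group
  obtain ⟨f, bs, hbs, hnd, hmem, hcomm, -⟩ := h.exists_six ha hc hac
  have hf : f ∈ M := hmem f (by simp)
  constructor
  · obtain ⟨k, hk, hkf⟩ := h.exists_far ha hc hac hf
    obtain ⟨g, hga, hgc⟩ := h.inter_const ha hc hac hf.1.1 hk.1.1 fun e => hkf e.symm
    refine ⟨g, ?_⟩
    rw [hmap, hsplit, hga, hgc, zpowers_le]
    exact mul_mem (subset_closure hf) (subset_closure hk)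
  intro g g' hg hg'
  rw [hmap, hsplit, zpowers_le] at hg hg'
  obtain ⟨hKC, c₃, hc₃, Q, hQ, -, ⟨e⟩⟩ := h.pair_structure ha hc hac
  have hmemM : ∀ g : G, g * a * g⁻¹ * (g * c * g⁻¹) ∈ K → g * a * g⁻¹ ∈ M ∧ g * c * g⁻¹ ∈ M := by
    intro g hg
    have hp := conj_mem h.cls g ha
    have hq := conj_mem h.cls g hc
    have hn : ¬ Commute (g * a * g⁻¹) (g * c * g⁻¹) := fun e => hac ((conj_commute_iff g a c).1 e)
    rw [hK, ← hMdef.symm, hKC, mem_centralizer_iff] at hg
    obtain ⟨h1, h2⟩ := commute_of_commute_mul h.cls.1 hp hq hn ha (hg a (by simp))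
    obtain ⟨h3, h4⟩ := commute_of_commute_mul h.cls.1 hp hq hn hc (hg c (by simp))
    exact ⟨⟨⟨hp, fun e => hac (e ▸ h3).symm, h1⟩, hp, fun e => hac (e ▸ h1), h3⟩,
      ⟨hq, fun e => hac (e ▸ h4).symm, h2⟩, hq, fun e => hac (e ▸ h2), h4⟩
  obtain ⟨hp, hq⟩ := hmemM g hg
  obtain ⟨hp', hq'⟩ := hmemM g' hg'
  have hn : ∀ g : G, ¬ Commute (g * a * g⁻¹) (g * c * g⁻¹) := fun g e => hac ((conj_commute_iff g a c).1 e)
  obtain ⟨b, bt, rfl⟩ := List.exists_cons_of_length_pos (l := bs) (by omega)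
  have hne : f ≠ b := fun e => (List.nodup_cons.1 hnd).1 (e ▸ List.mem_cons_self)
  have hR := common_rich h.cls ⟨f, hf⟩ (fun x hx y hy => h.exists_far₂ ha hc hac hx hy) hf (hmem b (by simp)) hne
    (hcomm f (by simp) b (by simp))
    (simple_commutator_of_equiv e (commutator_projReflection_simple (by norm_num) Q hQ hc₃))
  obtain ⟨k, hk, e₁, e₂⟩ := common_pairs h.cls ⟨f, hf⟩ (fun x hx y hy => h.exists_far₂ ha hc hac hx hy) hR hp hq (hn g)
    hp' hq' (hn g')
  refine ⟨k, hk, ?_⟩
  rw [hmap, hmap, hmap, hsplit g, hsplit g', ← e₁, ← e₂]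
  congr 1
  group

end M22

end Cfsg.Lib.ThreeTr
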