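import Cfsg.Agent.ThreeTransposition.Classes
import Cfsg.Agent.ThreeTransposition.Coxeter
import Cfsg.Agent.ThreeTransposition.RankThree

/-!
The normaliser of the group of order three attached to two noncommuting members `a`, `c`: the members centralising it
are the members commuting with both, and when only the members of the line commute with all of those, the normaliser
is the product of the symmetric group on the line and the joint centraliser of `a` and `c`.
-/

set_option autoImplicit false
set_option linter.unusedSectionVars false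

namespace Cfsg.Lib.ThreeTr

open Cfsg Subgroup Equiv

universe u

variable {G : Type u} [Group G] {D : Set G}

theorem hom3_adj (g : Fin 2 → G) (h0 : g 0 * g 0 = 1) (h1 : g 1 * g 1 = 1)
    (h01 : g 1 * g 0 * g 1 = g 0 * g 1 * g 0) (i : Fin 2) : hom3 g h0 h1 h01 (adj3 i) = g i := by
  have e : ∀ j : Fin 2, adj3 j = perm3 (![1, 2] j) := by decide +kernel
  show ((nf3 ((Equiv.ofBijective _ perm3_bijective).symm (adj3 i))).map g).prod = g i
  rw [e i, show ∀ j, (Equiv.ofBijective _ perm3_bijective).symm (perm3 j) = j from fun j => by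
    rw [Equiv.symm_apply_eq]; rfl]
  fin_cases i <;> simp [nf3]

theorem perm3_center : ∀ σ : Perm (Fin 3), (∀ τ : Perm (Fin 3), σ * τ = τ * σ) → σ = 1 := by decide +kernel

section Line

variable (hE : IsThreeTranspositionSet D) {a c : G} (ha : a ∈ D) (hc : c ∈ D) (hac : ¬ Commute a c)
include hE ha hc hac

/-- The symmetric group of degree three on a line. -/
theorem exists_sym_line : ∃ φ : Perm (Fin 3) →* G, Function.Injective φ ∧
    φ.range = closure ({a, c} : Set G) := by
  have h0 := sq_eq_one hE ha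
  have h1 := sq_eq_one hE hc
  have hbr : c * a * c = a * c * a := (braid hE ha hc hac).symm
  let φ := hom3 ![a, c] h0 h1 hbr
  have e0 : φ (swap 0 1) = a := hom3_adj ![a, c] h0 h1 hbr 0
  have e1 : φ (swap 1 2) = c := hom3_adj ![a, c] h0 h1 hbr 1
  refine ⟨φ, hom3_injective (by rw [e0, e1]; exact fun e => hac (e ▸ Commute.refl a)), le_antisymm ?_ ?_⟩
  · rintro _ ⟨σ, rfl⟩
    refine list_prod_mem fun x hx => ?_
    obtain ⟨i, -, rfl⟩ := List.mem_map.1 hx
    fin_cases i
    · exact subset_closure (Or.inl rfl)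
    · exact subset_closure (Or.inr rfl)
  · rw [closure_le]
    rintro _ (rfl | rfl)
    exacts [⟨_, e0⟩, ⟨_, e1⟩]

theorem line_iso : Nonempty (↥(closure ({a, c} : Set G)) ≃* Perm (Fin 3)) := by
  obtain ⟨φ, hφ, hr⟩ := exists_sym_line hE ha hc hac
  exact ⟨((MonoidHom.ofInjective hφ).trans (MulEquiv.subgroupCongr hr)).symm⟩

theorem line_inf : closure ({a, c} : Set G) ⊓ centralizer ({a, c} : Set G) = ⊥ := by
  obtain ⟨φ, hφ, hr⟩ := exists_sym_line hE ha hc hac
  refine (eq_bot_iff_forall _).2 ?_
  rintro z ⟨hz, hzc⟩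
  obtain ⟨σ, rfl⟩ : z ∈ φ.range := hr ▸ hz
  have hle : closure ({a, c} : Set G) ≤ centralizer {φ σ} :=
    (closure_le _).2 fun y hy => mem_centralizer_singleton_iff.2 (mem_centralizer_iff.1 hzc y hy)
  rw [perm3_center σ fun τ => hφ ?_, map_one]
  rw [map_mul, map_mul]
  exact (mem_centralizer_singleton_iff.1 (hle (hr ▸ ⟨τ, rfl⟩))).symm

theorem line_commute {C : Subgroup G} (hC : C ≤ centralizer ({a, c} : Set G)) :
    ∀ x ∈ closure ({a, c} : Set G), ∀ y ∈ C, x * y = y * x := by
  intro x hx y hy
  have hle : closure ({a, c} : Set G) ≤ centralizer {y} :=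
    (closure_le _).2 fun z hz => mem_centralizer_singleton_iff.2 (mem_centralizer_iff.1 (hC hy) z hz)
  exact mem_centralizer_singleton_iff.1 (hle hx)

/-- A member centralising the product centralises both factors. -/
theorem commute_of_commute_mul {y : G} (hy : y ∈ D) (h : Commute y (a * c)) : Commute y a ∧ Commute y c := by
  have haa := sq_eq_one hE ha
  have hcc := sq_eq_one hE hc
  have hyy := sq_eq_one hE hy
  by_cases hya : Commute y a
  · refine ⟨hya, ?_⟩
    have := hya.mul_right h
    rwa [← mul_assoc, haa, one_mul] at this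
  exfalso
  have hyc : ¬ Commute y c := fun hyc => hya (by
    have := h.mul_right hyc
    rwa [mul_assoc, hcc, mul_one] at this)
  have e : y * a * y * (y * c * y) = a * c := by
    calc y * a * y * (y * c * y) = y * a * ((y * y) * c) * y := by simp only [mul_assoc]
      _ = y * (a * c) * y := by rw [hyy, one_mul]; simp only [mul_assoc]
      _ = a * c := by rw [h.eq, mul_assoc, hyy, mul_one]
  -- the two products conjugate to one another
  have e2 : y * a * y * a = y * c * y * c := by
    calc y * a * y * a = y * a * y * (a * c) * c := by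
          rw [mul_assoc (y * a * y) (a * c), mul_assoc a c c, hcc, mul_one]
      _ = y * a * y * (y * a * y * (y * c * y)) * c := by rw [e]
      _ = y * (a * ((y * y) * a)) * y * (y * c * y) * c := by simp only [mul_assoc]
      _ = y * c * y * c := by rw [hyy, one_mul, haa, mul_one, hyy, one_mul]
  have e3 : ∀ {b : G}, b ∈ D → ¬ Commute y b → y * b * y * b = b * y := by
    intro b hb hyb
    rw [braid hE hy hb hyb, mul_assoc, sq_eq_one hE hb, mul_one]
  rw [e3 ha hya, e3 hc hyc, mul_left_inj] at e2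
  exact hac (e2 ▸ Commute.refl a)

theorem mem_common_iff {y : G} : (y ∈ D ∧ y ∈ centralizer ((zpowers (a * c) : Subgroup G) : Set G)) ↔
    y ∈ perp D a ∩ perp D c := by
  constructor
  · rintro ⟨hy, h⟩
    obtain ⟨h1, h2⟩ := commute_of_commute_mul hE ha hc hac hy (mem_centralizer_iff.1 h _ (mem_zpowers _)).symm
    exact ⟨⟨hy, fun e => hac (e ▸ h2), h1.symm⟩, hy, fun e => hac (e ▸ h1).symm, h2.symm⟩
  · rintro ⟨⟨hy, -, h1⟩, -, -, h2⟩
    refine ⟨hy, mem_centralizer_iff.2 fun z hz => ?_⟩
    obtain ⟨n, rfl⟩ := mem_zpowers_iff.1 hz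
    exact ((h1.mul_left h2).zpow_left n).eq

theorem inter_centralizer : D ∩ (centralizer ((zpowers (a * c) : Subgroup G) : Set G) : Set G) =
    perp D a ∩ perp D c :=
  Set.ext fun _ => mem_common_iff hE ha hc hac

theorem common_eq : {y : G | y ∈ D ∧ Commute a y ∧ Commute c y ∧ y ≠ a ∧ y ≠ c} = perp D a ∩ perp D c := by
  ext y
  exact ⟨fun ⟨h, h1, h2, h3, h4⟩ => ⟨⟨h, h3, h1⟩, h, h4, h2⟩, fun ⟨⟨h, h3, h1⟩, _, h4, h2⟩ => ⟨h, h1, h2, h3, h4⟩⟩

end Line

section Normaliser

variable (hD : IsThreeTranspositionClass D)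
  (hdbl : ∀ x ∈ D, ∀ y ∈ D, ¬ Commute x y → ∀ w ∈ D,
    (∀ z ∈ D, Commute z x → Commute z y → Commute z w) → w = x ∨ w = y ∨ w = x * y * x)
  {a c : G} (ha : a ∈ D) (hc : c ∈ D) (hac : ¬ Commute a c)
include hD hdbl ha hc hac

/-- The normaliser of the group of order three of a line. -/
theorem line_normalizer :
    closure ({a, c} : Set G) ⊔ centralizer ({a, c} : Set G) =
      normalizer ((zpowers (a * c) : Subgroup G) : Set G) := by
  have hE := hD.1
  have haa := sq_eq_one hE ha
  have hcc := sq_eq_one hE hc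
  have hinv : (a * c)⁻¹ = c * a := by rw [mul_inv_rev, inv_eq hE ha, inv_eq hE hc]
  have key : ∀ {g : G}, (g * (a * c) * g⁻¹ = a * c ∨ g * (a * c) * g⁻¹ = (a * c)⁻¹) →
      g ∈ normalizer ((zpowers (a * c) : Subgroup G) : Set G) := by
    intro g hg
    rw [mem_normalizer_iff_map_conj_eq, MonoidHom.map_zpowers]
    show zpowers (g * (a * c) * g⁻¹) = _
    rcases hg with e | e <;> rw [e]
    rw [zpowers_inv]
  refine le_antisymm (sup_le ((closure_le _).2 ?_) ?_) fun g hg => ?_
  · rintro _ (rfl | rfl)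
    · refine key (Or.inr ?_)
      rw [hinv, inv_eq hE ha, ← mul_assoc, haa, one_mul]
    · refine key (Or.inr ?_)
      rw [hinv, inv_eq hE hc, mul_assoc, mul_assoc, hcc, mul_one]
  · intro g hg
    refine key (Or.inl ?_)
    rw [← ((show Commute a g from mem_centralizer_iff.1 hg a (by simp)).mul_left
      (show Commute c g from mem_centralizer_iff.1 hg c (by simp))).eq, mul_inv_cancel_right]
  set a' := g * a * g⁻¹ with ha'
  set c' := g * c * g⁻¹ with hc'
  have ha'D : a' ∈ D := conj_mem hD g ha
  have hc'D : c' ∈ D := conj_mem hD g hc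
  have hac' : ¬ Commute a' c' := fun e => hac ((conj_commute_iff g a c).1 e)
  have hX : (zpowers (a' * c') : Subgroup G) = zpowers (a * c) := by
    have := mem_normalizer_iff_map_conj_eq.1 hg
    rw [MonoidHom.map_zpowers] at this
    rw [← this]
    show zpowers (a' * c') = zpowers (g * (a * c) * g⁻¹)
    congr 1
    rw [ha', hc']; group
  have hpts : ∀ z ∈ D, Commute z a → Commute z c → Commute z a' ∧ Commute z c' := by
    intro z hz h1 h2
    have hzm : z ∈ perp D a ∩ perp D c :=
      ⟨⟨hz, fun e => hac (e ▸ h2), h1.symm⟩, hz, fun e => hac (e ▸ h1).symm, h2.symm⟩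
    have h3 := (mem_common_iff hE ha hc hac).2 hzm
    rw [← hX] at h3
    have h4 := (mem_common_iff hE ha'D hc'D hac').1 h3
    exact ⟨h4.1.2.2.symm, h4.2.2.2.symm⟩
  have hA := hdbl a ha c hc hac a' ha'D fun z hz h1 h2 => (hpts z hz h1 h2).1
  have hC := hdbl a ha c hc hac c' hc'D fun z hz h1 h2 => (hpts z hz h1 h2).2
  have hne : a' ≠ c' := fun e => hac' (e ▸ Commute.refl a')
  have hSa : a ∈ closure ({a, c} : Set G) := subset_closure (Or.inl rfl)
  have hSc : c ∈ closure ({a, c} : Set G) := subset_closure (Or.inr rfl)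
  obtain ⟨s, hs, hsa, hsc⟩ : ∃ s ∈ closure ({a, c} : Set G), s * a * s⁻¹ = a' ∧ s * c * s⁻¹ = c' := by
    have hbr := braid hE ha hc hac
    rcases hA with eA | eA | eA <;> rcases hC with eC | eC | eC <;>
      first
      | exact absurd (eA.trans eC.symm) hne
      | skip
    · exact ⟨1, one_mem _, by simp [eA], by simp [eC]⟩
    · exact ⟨a, hSa, by simp [eA], by rw [eC, inv_eq hE ha]⟩
    · refine ⟨a * c * a, mul_mem (mul_mem hSa hSc) hSa, ?_, ?_⟩
      · rw [eA, hbr, mul_inv_rev, mul_inv_rev, inv_eq hE ha, inv_eq hE hc]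
        calc c * a * c * a * (c * (a * c)) = c * a * c * (a * c * a) * c := by simp only [mul_assoc]
          _ = c := by
            rw [hbr]
            calc c * a * c * (c * a * c) * c = c * (a * ((c * c) * a)) * (c * c) := by simp only [mul_assoc]
              _ = c := by rw [hcc, one_mul, haa, mul_one, mul_one]
      · rw [eC, mul_inv_rev, mul_inv_rev, inv_eq hE ha, inv_eq hE hc]
        calc a * c * a * c * (a * (c * a)) = a * c * a * (c * a * c) * a := by simp only [mul_assoc]
          _ = a := by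
            rw [← hbr]
            calc a * c * a * (a * c * a) * a = a * (c * ((a * a) * c)) * (a * a) := by simp only [mul_assoc]
              _ = a := by rw [haa, one_mul, hcc, mul_one, mul_one]
    · exact ⟨a * c, mul_mem hSa hSc, by rw [eA, mul_conj_eq hE ha hc hac], by
        rw [eC, mul_inv_rev, inv_eq hE ha, inv_eq hE hc]
        calc a * c * c * (c * a) = a * ((c * c) * c) * a := by simp only [mul_assoc]
          _ = a * c * a := by rw [hcc, one_mul]⟩
    · refine ⟨c * a, mul_mem hSc hSa, ?_, ?_⟩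
      · rw [eA, hbr, mul_inv_rev, inv_eq hE ha, inv_eq hE hc]
        calc c * a * a * (a * c) = c * ((a * a) * a) * c := by simp only [mul_assoc]
          _ = c * a * c := by rw [haa, one_mul]
      · rw [eC, mul_conj_eq hE hc ha fun e => hac e.symm]
    · exact ⟨c, hSc, by rw [eA, hbr, inv_eq hE hc], by simp [eC]⟩
  have hrest : s⁻¹ * g ∈ centralizer ({a, c} : Set G) := by
    have fix_ : ∀ {x : G}, g * x * g⁻¹ = s * x * s⁻¹ → x * (s⁻¹ * g) = s⁻¹ * g * x := fun {x} h => by
      calc x * (s⁻¹ * g) = s⁻¹ * (s * x * s⁻¹) * g := by group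
        _ = s⁻¹ * (g * x * g⁻¹) * g := by rw [h]
        _ = s⁻¹ * g * x := by group
    rw [mem_centralizer_iff]
    rintro _ (rfl | rfl)
    exacts [fix_ hsa.symm, fix_ hsc.symm]
  have := mul_mem_sup hs hrest
  rwa [mul_inv_cancel_left] at this

end Normaliser

end Cfsg.Lib.ThreeTr
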