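import Cfsg.Agent.S5357
import Cfsg.Agent.S5360
import Cfsg.Agent.ThreeTransposition.Primitive

/-!
The commutator subgroup of a projective reflection group over the field with three elements, in dimension at least
five, is simple; a group isomorphic to such a group with a class of 3-transpositions generating it and two commuting
members acts primitively on the class.
-/

set_option autoImplicit false

namespace Cfsg.Lib.ThreeTr

open Cfsg Subgroup

universe u

variable {G : Type u} [Group G] {D : Set G}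

theorem semisimple_of_primitive [Finite G] (hD : IsThreeTranspositionClass D) (hP : IsPrimitiveUnderConj D)
    (hw : ∃ a ∈ D, ∃ b ∈ D, a ≠ b ∧ Commute a b) : Semisimple D := by
  obtain ⟨a, ha, b, hb, hab, hc⟩ := hw
  have hw : ∃ a ∈ D, ∃ b ∈ D, a ≠ b ∧ Commute a b := ⟨a, ha, b, hb, hab, hc⟩
  have hmove : ∀ p : ℕ, ¬ pCore p G ≤ center G → ∃ u ∈ D, ∃ v ∈ D, u ≠ v ∧ u⁻¹ * v ∈ pCore p G := by
    intro p h
    haveI := (Cfsg.Lib.Components.pCore_normal_and_isPGroup (G := G) p).1
    obtain ⟨g, hg, hgd⟩ := exists_moved hD h ha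
    exact ⟨a, ha, _, conj_mem hD g ha, hgd.symm, moved_diff_mem hg⟩
  refine ⟨hD, ⟨a, ha, b, hb, hab⟩, ?_, ?_⟩
  · by_contra h
    obtain ⟨u, hu, v, hv, huv, hm⟩ := hmove 2 h
    exact huv.symm (eq_of_vRel_of_primitive hP hD hv hu (vRel_of_mem_pCore hD hu hv hm))
  · by_contra h
    obtain ⟨u, hu, v, hv, huv, hm⟩ := hmove 3 h
    exact huv (eq_of_wRel_of_primitive hP hD hw hu hv (wRel_of_mem_pCore hD hu hv hm))

theorem center_commutator_le [Finite G] (hD : IsThreeTranspositionClass D) (hP : IsPrimitiveUnderConj D)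
    (hw : ∃ a ∈ D, ∃ b ∈ D, a ≠ b ∧ Commute a b) (hi : (commutator G).index ≤ 2)
    (hq : IsQuasisimple ↥(commutator G)) :
    ∀ z ∈ center ↥(commutator G), (z : G) ∈ center G := by
  intro z hz
  have hS := semisimple_of_primitive hD hP hw
  refine hS.centralizer_le_center ?_
  rw [← eq_layer hD hq]
  exact mem_centralizer_iff.2 fun y hy => congrArg Subtype.val (mem_center_iff.1 hz ⟨y, hy⟩)

theorem commutator_projReflection_simple {n : ℕ} (hn : 5 ≤ n) (Q : QuadraticForm (ZMod 3) (Fin n → ZMod 3))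
    (hQ : (QuadraticMap.polarBilin Q).Nondegenerate) {c : ZMod 3} (hc : c ≠ 0) :
    IsSimpleGroup ↥(commutator (↥(reflectionSubgroup (⇑Q) c) ⧸ center ↥(reflectionSubgroup (⇑Q) c))) := by
  classical
  obtain ⟨hq, hi, -, hprim⟩ := Cfsg.Agent.S5360.result n hn Q hQ c hc
  have hD := Cfsg.Agent.S5357.result n hn Q hQ c hc
  set R := ↥(reflectionSubgroup (⇑Q) c)
  haveI : Finite R := inferInstance
  -- two commuting reflections
  obtain ⟨u, hu, -⟩ := Cfsg.Agent.S5357.exists_orth_val Q hQ (k := 0) (by omega) ![] finZeroElim finZeroElim hc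
  obtain ⟨w, hw, hwS⟩ := Cfsg.Agent.S5357.exists_orth_val Q hQ (k := 1) (by omega) ![u]
    (fun i => by fin_cases i; simp [hu, hc]) (fun i j hij => absurd (Subsingleton.elim i j) hij) hc
  have huw : QuadraticMap.polar (⇑Q) u w = 0 := (QuadraticMap.polar_comm (⇑Q) u w).trans (hwS 0)
  open Cfsg.Lib.Classical.Refl in
  let r : ∀ v, Q v = c → R := fun v hv => ⟨refl Q v (hv ▸ hc), subset_closure ⟨v, hv, rfl⟩⟩
  have hne : w ≠ u ∧ w ≠ -u := by
    have key : QuadraticMap.polar (⇑Q) u u ≠ 0 := by
      rw [QuadraticMap.polar_self, hu]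
      exact (by decide +kernel : ∀ c : ZMod 3, c ≠ 0 → (2 : ℕ) • c ≠ 0) c hc
    constructor <;> rintro rfl
    · exact key huw
    · exact key (by rwa [QuadraticMap.polar_neg_right, neg_eq_zero] at huw)
  have hpair : ∃ a ∈ {g : R | (g : ↥(isometryGroup (ZMod 3) (⇑Q))) ∈ reflectionsOfNorm (⇑Q) c},
      ∃ b ∈ {g : R | (g : ↥(isometryGroup (ZMod 3) (⇑Q))) ∈ reflectionsOfNorm (⇑Q) c}, a ≠ b ∧ Commute a b := by
    refine ⟨r u hu, ⟨u, hu, rfl⟩, r w hw, ⟨w, hw, rfl⟩, fun e => ?_, ?_⟩
    · have e1 : reflectionMatrix (⇑Q) u = reflectionMatrix (⇑Q) w :=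
        congrArg (fun g : R => (((g : ↥(isometryGroup (ZMod 3) (⇑Q))) : Matrix.GeneralLinearGroup (Fin n) (ZMod 3)) :
          Matrix (Fin n) (Fin n) (ZMod 3))) e
      have e2 := congrArg (fun M => Matrix.mulVec M u) e1
      simp only [Cfsg.Lib.Classical.Refl.self Q u (hu ▸ hc),
        Cfsg.Lib.Classical.Refl.fix Q w u (by rw [QuadraticMap.polar_comm]; exact huw)] at e2
      apply hc
      rw [← hu, show u = 0 from funext fun i =>
        (by decide +kernel : ∀ x : ZMod 3, -x = x → x = 0) _ (congrFun e2 i), map_zero]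
    · exact Subtype.ext (Subtype.ext (Units.ext
        ((Cfsg.Agent.S5358.result n Q hQ u w (hu ▸ hc) (hu.trans hw.symm) hne.1 hne.2).mpr huw).eq))
  have hZ := center_commutator_le hD hprim hpair hi hq
  set π := QuotientGroup.mk' (center R)
  have hmap : (commutator R).map π = commutator (R ⧸ center R) := by
    rw [_root_.commutator_def, map_commutator, ← MonoidHom.range_eq_map,
      MonoidHom.range_eq_top.2 (QuotientGroup.mk'_surjective _)]
    rfl
  set f : ↥(commutator R) →* ↥(commutator (R ⧸ center R)) :=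
    (π.comp (commutator R).subtype).codRestrict _ fun x => hmap ▸ mem_map_of_mem π x.2 with hf
  have hfs : Function.Surjective f := by
    rintro ⟨y, hy⟩
    rw [← hmap] at hy
    obtain ⟨x, hx, rfl⟩ := hy
    exact ⟨⟨x, hx⟩, rfl⟩
  have hker : center ↥(commutator R) ≤ f.ker := fun z hz =>
    Subtype.ext ((QuotientGroup.eq_one_iff _).2 (hZ z hz))
  haveI := hq.2
  haveI : Nontrivial ↥(commutator (R ⧸ center R)) := by
    by_contra hnt
    rw [not_nontrivial_iff_subsingleton] at hnt
    have hall : ∀ z : ↥(commutator R), (z : R) ∈ center R := fun z =>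
      (QuotientGroup.eq_one_iff _).1 (congrArg Subtype.val (Subsingleton.elim (f z) 1))
    haveI : Subsingleton (↥(commutator R) ⧸ center ↥(commutator R)) := by
      refine ⟨fun x y => ?_⟩
      obtain ⟨x, rfl⟩ := QuotientGroup.mk_surjective x
      obtain ⟨y, rfl⟩ := QuotientGroup.mk_surjective y
      exact QuotientGroup.eq.2 (mem_center_iff.2 fun g => Subtype.ext (mem_center_iff.1 (hall _) g))
    exact not_subsingleton (↥(commutator R) ⧸ center ↥(commutator R)) inferInstance
  refine IsSimpleGroup.isSimpleGroup_of_surjective (QuotientGroup.lift _ f hker) fun y => ?_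
  obtain ⟨x, rfl⟩ := hfs y
  exact ⟨QuotientGroup.mk x, rfl⟩

theorem simple_commutator_of_equiv {H : Type*} [Group H] {K : Type*} [Group K] (e : H ≃* K)
    (hs : IsSimpleGroup ↥(commutator K)) : IsSimpleGroup ↥(commutator H) := by
  have hmap : (commutator H).map e.toMonoidHom = commutator K := by
    rw [_root_.commutator_def, map_commutator, ← MonoidHom.range_eq_map,
      MonoidHom.range_eq_top.2 e.surjective]
    rfl
  set i : ↥(commutator H) ≃* ↥(commutator K) := (e.subgroupMap (commutator H)).trans (MulEquiv.subgroupCongr hmap)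
  haveI := hs
  haveI : Nontrivial ↥(commutator H) := i.toEquiv.nontrivial
  exact IsSimpleGroup.isSimpleGroup_of_surjective i.symm.toMonoidHom i.symm.surjective

/-- Primitivity from the simple commutator. -/
theorem rich_of_simple_pair [Finite G] (hD : IsThreeTranspositionClass D)
    (hw : ∃ a ∈ D, ∃ b ∈ D, a ≠ b ∧ Commute a b) (hs : IsSimpleGroup ↥(commutator G)) : Rich D := by
  have hS := semisimple_of_simple_commutator hD hw hs
  exact ⟨hD, hS.primitive (index_le_two_of_simple_commutator hS hs), hw⟩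

end Cfsg.Lib.ThreeTr
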