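import Cfsg.Agent.ThreeTransposition.PairNormaliser.Line
import Cfsg.Agent.ThreeTransposition.PairNormaliser.ReflSimple
import Cfsg.Agent.ThreeTransposition.Relations

/-!
The members commuting with two noncommuting members as a class of the group they generate; when that group has simple
commutator subgroup, the conjugates of the group of order three inside it form one class.
-/

set_option autoImplicit false
set_option linter.unusedSectionVars false

namespace Cfsg.Lib.ThreeTr

open Cfsg Subgroup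

universe u

variable {G : Type u} [Group G] {D : Set G}

/-- The members among the elements of a subgroup. -/
def classIn (M : Set G) : Set ↥(closure M) := {x | (x : G) ∈ M}

section Common

variable (hD : IsThreeTranspositionClass D) {a c : G} (hM : (perp D a ∩ perp D c).Nonempty)
  (hfar : ∀ f ∈ perp D a ∩ perp D c, ∀ g ∈ perp D a ∩ perp D c,
    ∃ k ∈ perp D a ∩ perp D c, ¬ Commute k f ∧ ¬ Commute k g)
include hD hM hfar

theorem common_class : IsThreeTranspositionClass (classIn (perp D a ∩ perp D c)) := by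
  set M := perp D a ∩ perp D c with hMdef
  have hE := hD.1
  have hinv : ∀ g ∈ closure M, ∀ x ∈ M, g * x * g⁻¹ ∈ M := fun g hg x hx =>
    ⟨conj_mem_perp (fun g _ hd => conj_mem hD g hd) (closure_mono Set.inter_subset_left hg) hx.1,
      conj_mem_perp (fun g _ hd => conj_mem hD g hd) (closure_mono Set.inter_subset_right hg) hx.2⟩
  refine ⟨⟨fun x hx => by rw [← Subgroup.orderOf_coe]; exact hE.1 _ hx.1.1, fun x hx y hy => ?_⟩, ?_, ?_⟩
  · rcases hE.2 _ hx.1.1 _ hy.1.1 with e | e
    · exact Or.inl (Subtype.ext (by simpa using e))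
    · exact Or.inr (Subtype.ext (by simpa using e))
  · obtain ⟨f, hf⟩ := hM
    refine ⟨⟨f, subset_closure hf⟩, hf, Set.Subset.antisymm (fun x hx => ?_) fun x hx => ?_⟩
    · obtain ⟨k, hk, hkf, hkx⟩ := hfar f hf _ hx
      refine isConj_iff.2 ⟨⟨k * x, mul_mem (subset_closure hk) x.2⟩ *
        ⟨f * k, mul_mem (subset_closure hf) (subset_closure hk)⟩, Subtype.ext ?_⟩
      show k * (x : G) * (f * k) * f * (k * (x : G) * (f * k))⁻¹ = x
      calc k * (x : G) * (f * k) * f * (k * (x : G) * (f * k))⁻¹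
          = k * (x : G) * (f * k * f * (f * k)⁻¹) * (k * (x : G))⁻¹ := by group
        _ = x := by
          rw [mul_conj_eq hE hf.1.1 hk.1.1 fun e => hkf e.symm, mul_conj_eq hE hk.1.1 hx.1.1 hkx]
    · obtain ⟨g, rfl⟩ := isConj_iff.1 hx
      exact hinv _ g.2 _ hf
  · exact Subgroup.closure_closure_coe_preimage

theorem common_rich [Finite G] {p q : G} (hp : p ∈ perp D a ∩ perp D c) (hq : q ∈ perp D a ∩ perp D c) (hpq : p ≠ q)
    (hc : Commute p q) (hs : IsSimpleGroup ↥(commutator ↥(closure (perp D a ∩ perp D c)))) :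
    Rich (classIn (perp D a ∩ perp D c)) :=
  rich_of_simple_pair (common_class hD hM hfar)
    ⟨⟨p, subset_closure hp⟩, hp, ⟨q, subset_closure hq⟩, hq, fun e => hpq (congrArg Subtype.val e),
      Subtype.ext hc.eq⟩ hs

/-- Noncommuting pairs of the common neighbourhood are conjugate. -/
theorem common_pairs [Finite G] (hR : Rich (classIn (perp D a ∩ perp D c))) {p q p' q' : G}
    (hp : p ∈ perp D a ∩ perp D c) (hq : q ∈ perp D a ∩ perp D c) (hpq : ¬ Commute p q)
    (hp' : p' ∈ perp D a ∩ perp D c) (hq' : q' ∈ perp D a ∩ perp D c) (hpq' : ¬ Commute p' q') :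
    ∃ k ∈ closure (perp D a ∩ perp D c), k * p * k⁻¹ = p' ∧ k * q * k⁻¹ = q' := by
  have hcls := hR.cls
  have hcomm : ∀ {x y : ↥(closure (perp D a ∩ perp D c))}, Commute x y ↔ Commute (x : G) y :=
    fun {x y} => ⟨fun e => congrArg Subtype.val e.eq, fun e => Subtype.ext e.eq⟩
  obtain ⟨k₁, hk₁⟩ := exists_conj hcls (a := ⟨p, subset_closure hp⟩) (b := ⟨p', subset_closure hp'⟩) hp hp'
  set q₁ := k₁ * ⟨q, subset_closure hq⟩ * k₁⁻¹ with hq₁
  have hq₁m : q₁ ∈ classIn (perp D a ∩ perp D c) := conj_mem hcls k₁ (show _ ∈ classIn _ from hq)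
  have hn : ¬ Commute (⟨p', subset_closure hp'⟩ : ↥(closure (perp D a ∩ perp D c))) q₁ := fun e => hpq
    (hcomm.1 ((conj_commute_iff k₁ ⟨p, subset_closure hp⟩ ⟨q, subset_closure hq⟩).1 (by rwa [hk₁])))
  obtain ⟨k₂, hk₂, e₂⟩ := hR.nonperp_transitive (d := (⟨p', subset_closure hp'⟩ : ↥(closure (perp D a ∩ perp D c))))
    hp' hq₁m hn (v := ⟨q', subset_closure hq'⟩) hq' fun e => hpq' (hcomm.1 e)
  refine ⟨(k₂ * k₁ : ↥(closure (perp D a ∩ perp D c))), SetLike.coe_mem _, ?_, ?_⟩
  · have : k₂ * k₁ * (⟨p, subset_closure hp⟩ : ↥(closure (perp D a ∩ perp D c))) * (k₂ * k₁)⁻¹ =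
        ⟨p', subset_closure hp'⟩ := by
      calc _ = k₂ * (k₁ * ⟨p, subset_closure hp⟩ * k₁⁻¹) * k₂⁻¹ := by group
        _ = _ := by rw [hk₁, hk₂.eq, mul_inv_cancel_right]
    simpa using congrArg Subtype.val this
  · have : k₂ * k₁ * (⟨q, subset_closure hq⟩ : ↥(closure (perp D a ∩ perp D c))) * (k₂ * k₁)⁻¹ =
        ⟨q', subset_closure hq'⟩ := by
      rw [← e₂, hq₁]; group
    simpa using congrArg Subtype.val this

end Common

end Cfsg.Lib.ThreeTr
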